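import Mathlib

/-!
# S0197, piece Q1 (a): a fast model of `GL(2,3)`

`M48` is the set of quadruples `((a, b), (c, d))` over `ZMod 3` with `a d - b c ≠ 0`, with the
matrix multiplication written out, so that `decide` is fast.  `toGL : M48 ≃* GL (Fin 2) (ZMod 3)`.
-/

set_option autoImplicit false

namespace Cfsg.Agent.S0197

/-- Mathlib's `GL(2,3)`. -/
abbrev GL23 := Matrix.GeneralLinearGroup (Fin 2) (ZMod 3)

/-- quadruples -/
abbrev Q4 := (ZMod 3 × ZMod 3) × (ZMod 3 × ZMod 3)

/-- determinant of a quadruple -/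
def qdet (p : Q4) : ZMod 3 := p.1.1 * p.2.2 - p.1.2 * p.2.1

/-- product of quadruples -/
def qmul (p q : Q4) : Q4 :=
  ((p.1.1 * q.1.1 + p.1.2 * q.2.1, p.1.1 * q.1.2 + p.1.2 * q.2.2),
   (p.2.1 * q.1.1 + p.2.2 * q.2.1, p.2.1 * q.1.2 + p.2.2 * q.2.2))

/-- inverse of a quadruple (the determinant is its own inverse) -/
def qinv (p : Q4) : Q4 :=
  ((qdet p * p.2.2, -(qdet p * p.1.2)), (-(qdet p * p.2.1), qdet p * p.1.1))

/-- identity quadruple -/
def qone : Q4 := ((1, 0), (0, 1))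

theorem qdet_mul (p q : Q4) : qdet (qmul p q) = qdet p * qdet q := by
  unfold qdet qmul
  ring

theorem qdet_one : qdet qone = 1 := by decide

theorem qdet_sq : ∀ p : Q4, qdet p ≠ 0 → qdet p * qdet p = 1 := by decide

theorem qdet_inv : ∀ p : Q4, qdet p ≠ 0 → qdet (qinv p) ≠ 0 := by decide

theorem qmul_assoc (p q r : Q4) : qmul (qmul p q) r = qmul p (qmul q r) := by
  unfold qmul
  ext <;> simp <;> ring

theorem qone_mul (p : Q4) : qmul qone p = p := by
  unfold qmul qone
  ext <;> simp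

theorem qmul_one (p : Q4) : qmul p qone = p := by
  unfold qmul qone
  ext <;> simp

theorem qinv_mul : ∀ p : Q4, qdet p ≠ 0 → qmul (qinv p) p = qone := by decide

theorem qmul_inv : ∀ p : Q4, qdet p ≠ 0 → qmul p (qinv p) = qone := by decide

/-- The model group. -/
def M48 : Type := {p : Q4 // qdet p ≠ 0}

instance : DecidableEq M48 := inferInstanceAs (DecidableEq {p : Q4 // qdet p ≠ 0})
instance : Fintype M48 := inferInstanceAs (Fintype {p : Q4 // qdet p ≠ 0})

instance : Mul M48 := ⟨fun p q => ⟨qmul p.1 q.1, by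
  rw [qdet_mul]; exact mul_ne_zero p.2 q.2⟩⟩
instance : One M48 := ⟨⟨qone, by rw [qdet_one]; decide⟩⟩
instance : Inv M48 := ⟨fun p => ⟨qinv p.1, qdet_inv p.1 p.2⟩⟩

theorem M48.mul_val (p q : M48) : (p * q).1 = qmul p.1 q.1 := rfl
theorem M48.one_val : (1 : M48).1 = qone := rfl
theorem M48.inv_val (p : M48) : (p⁻¹).1 = qinv p.1 := rfl

instance : Group M48 where
  mul_assoc p q r := Subtype.ext (qmul_assoc p.1 q.1 r.1)
  one_mul p := Subtype.ext (qone_mul p.1)
  mul_one p := Subtype.ext (qmul_one p.1)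
  inv_mul_cancel p := Subtype.ext (qinv_mul p.1 p.2)

theorem card_M48 : Fintype.card M48 = 48 := by decide +kernel

/-- the matrix of a quadruple -/
def qmat (p : Q4) : Matrix (Fin 2) (Fin 2) (ZMod 3) := !![p.1.1, p.1.2; p.2.1, p.2.2]

theorem qmat_mul (p q : Q4) : qmat (qmul p q) = qmat p * qmat q := by
  unfold qmat qmul
  ext i j
  fin_cases i <;> fin_cases j <;> simp [Matrix.mul_apply, Fin.sum_univ_two]

theorem qmat_one : qmat qone = 1 := by
  unfold qmat qone
  ext i j
  fin_cases i <;> fin_cases j <;> simp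

/-- The map to Mathlib's `GL(2,3)`. -/
def toGLfun (p : M48) : GL23 :=
  ⟨qmat p.1, qmat (p⁻¹).1,
    by rw [← qmat_mul, ← M48.mul_val, mul_inv_cancel, M48.one_val, qmat_one],
    by rw [← qmat_mul, ← M48.mul_val, inv_mul_cancel, M48.one_val, qmat_one]⟩

theorem toGLfun_val (p : M48) : ((toGLfun p : GL23) : Matrix (Fin 2) (Fin 2) (ZMod 3)) = qmat p.1 :=
  rfl

/-- the quadruple of a matrix -/
def matq (m : Matrix (Fin 2) (Fin 2) (ZMod 3)) : Q4 := ((m 0 0, m 0 1), (m 1 0, m 1 1))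

theorem qmat_matq (m : Matrix (Fin 2) (Fin 2) (ZMod 3)) : qmat (matq m) = m := by
  unfold qmat matq
  ext i j
  fin_cases i <;> fin_cases j <;> rfl

theorem matq_qmat (p : Q4) : matq (qmat p) = p := by
  unfold qmat matq
  ext <;> simp

theorem qdet_matq (m : Matrix (Fin 2) (Fin 2) (ZMod 3)) : qdet (matq m) = m.det := by
  unfold qdet matq
  rw [Matrix.det_fin_two]

/-- The isomorphism of the model with Mathlib's `GL(2,3)`. -/
def toGL : M48 ≃* GL23 where
  toFun := toGLfun
  invFun m := ⟨matq (m : Matrix (Fin 2) (Fin 2) (ZMod 3)), by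
    rw [qdet_matq]
    exact (Matrix.isUnit_iff_isUnit_det _).mp m.isUnit |>.ne_zero⟩
  left_inv p := Subtype.ext (by
    show matq (qmat p.1) = p.1
    exact matq_qmat p.1)
  right_inv m := Units.ext (by
    show qmat (matq (m : Matrix (Fin 2) (Fin 2) (ZMod 3))) = _
    exact qmat_matq _)
  map_mul' p q := Units.ext (by
    show qmat (p * q).1 = qmat p.1 * qmat q.1
    rw [M48.mul_val, qmat_mul])

end Cfsg.Agent.S0197
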