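import Mathlib
import Cfsg.Agent.S0197.H5_Model

/-!
# S0197, piece Q1 (b): `decide` data on the model `M48` of `GL(2,3)`

Notation of `notes/S0197_blueprint_helper3.md`.  `tt = -1`, `sing` = the set `A` (elements with a
power equal to `tt`), classes recognised by trace and determinant, the integer parts `al i`, `be i`
of the five class functions `θ i = al i + i√2 · be i`, their Gram sums and the local pair counts.
-/

set_option autoImplicit false

namespace Cfsg.Agent.S0197

/-- The central involution. -/
def tt : M48 := ⟨((2, 0), (0, 2)), by decide⟩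

/-- The trace. -/
def tr (m : M48) : ZMod 3 := m.1.1.1 + m.1.2.2

/-- The determinant. -/
def dt (m : M48) : ZMod 3 := qdet m.1

/-- the class of the elements of order `8` with trace `1` -/
def c8a (m : M48) : Bool := decide (tr m = 1 ∧ dt m = 2)
/-- the class of the elements of order `8` with trace `-1` -/
def c8b (m : M48) : Bool := decide (tr m = 2 ∧ dt m = 2)
/-- the class of the elements of order `4` -/
def c4 (m : M48) : Bool := decide (tr m = 0 ∧ dt m = 1)
/-- the class of the elements of order `6` -/
def c6 (m : M48) : Bool := decide (tr m = 1 ∧ dt m = 1 ∧ m ≠ tt)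
/-- the class of the elements of order `3` -/
def c3 (m : M48) : Bool := decide (tr m = 2 ∧ dt m = 1 ∧ m ≠ 1)
/-- the class of the non-central involutions -/
def cR (m : M48) : Bool := decide (tr m = 0 ∧ dt m = 2)
/-- the central involution -/
def cT (m : M48) : Bool := decide (m = tt)

/-- The set `A`: elements with a power equal to `tt`. -/
def sing (m : M48) : Bool := cT m || c6 m || c4 m || c8a m || c8b m

theorem tt_mul_self : tt * tt = 1 := by decide +kernel

theorem tt_ne_one : tt ≠ 1 := by decide +kernel

theorem tt_central : ∀ m : M48, tt * m = m * tt := by decide +kernel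

theorem center_M48 : ∀ m : M48, (∀ c : M48, c * m = m * c) → m = 1 ∨ m = tt := by decide +kernel

theorem cls_cases : ∀ m : M48, m = 1 ∨ cT m = true ∨ c3 m = true ∨ c6 m = true ∨ c4 m = true ∨
    cR m = true ∨ c8a m = true ∨ c8b m = true := by decide +kernel

theorem sing_iff_pow : ∀ m : M48, sing m = true ↔
    (m = tt ∨ m ^ 2 = tt ∨ m ^ 3 = tt ∨ m ^ 4 = tt) := by decide +kernel

theorem sing_inv : ∀ m : M48, sing m⁻¹ = sing m := by decide +kernel

theorem sing_conj : ∀ m c : M48, sing (c * m * c⁻¹) = sing m := by decide +kernel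

theorem sing_ne_one : ∀ m : M48, sing m = true → m ≠ 1 := by decide +kernel

/-- `tt` is the only involution among the powers of an element of `A`. -/
theorem sing_pow_invol : ∀ m : M48, sing m = true → ∀ j : Fin 5,
    m ^ j.val * m ^ j.val = 1 → m ^ j.val ≠ 1 → m ^ j.val = tt := by decide +kernel

/-- the involutions of the model -/
theorem invol_cases : ∀ m : M48, m * m = 1 → m ≠ 1 → (cT m = true ∨ cR m = true) := by
  decide +kernel

theorem sq_of_cR : ∀ m : M48, cR m = true → m * m = 1 ∧ m ≠ 1 := by decide +kernel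

/-! ### The class functions `θ i = al i + i√2 · be i` (values on `t, c6, c4, c8a, c8b`)

`θ1 = (0,0,0,4,4)`, `θ2 = (0,0,0,2i√2,-2i√2)`, `θ3 = (0,0,4,2,2)`, `θ4 = (4,-2,2,-i√2,i√2)`,
`θ5 = (8,2,0,2,2)`. -/

/-- `θ1` -/
def al1 (m : M48) : ℤ := if c8a m || c8b m then 4 else 0
/-- the `i√2`-part of `θ2` -/
def be2 (m : M48) : ℤ := if c8a m then 2 else if c8b m then -2 else 0
/-- `θ3` -/
def al3 (m : M48) : ℤ := if c4 m then 4 else if c8a m || c8b m then 2 else 0
/-- the rational part of `θ4` -/
def al4 (m : M48) : ℤ := if cT m then 4 else if c6 m then -2 else if c4 m then 2 else 0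
/-- the `i√2`-part of `θ4` -/
def be4 (m : M48) : ℤ := if c8a m then -1 else if c8b m then 1 else 0
/-- `θ5` -/
def al5 (m : M48) : ℤ := if cT m then 8 else if c6 m then 2 else if c8a m || c8b m then 2 else 0

theorem tr_conj : ∀ m c : M48, tr (c * m * c⁻¹) = tr m := by decide +kernel
theorem dt_conj : ∀ m c : M48, dt (c * m * c⁻¹) = dt m := by decide +kernel
theorem cT_conj : ∀ m c : M48, cT (c * m * c⁻¹) = cT m := by decide +kernel
theorem c6_conj : ∀ m c : M48, c6 (c * m * c⁻¹) = c6 m := by decide +kernel
theorem c4_conj : ∀ m c : M48, c4 (c * m * c⁻¹) = c4 m := by decide +kernel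
theorem c8a_conj : ∀ m c : M48, c8a (c * m * c⁻¹) = c8a m := by decide +kernel
theorem c8b_conj : ∀ m c : M48, c8b (c * m * c⁻¹) = c8b m := by decide +kernel
theorem cR_conj : ∀ m c : M48, cR (c * m * c⁻¹) = cR m := by decide +kernel
theorem c3_conj : ∀ m c : M48, c3 (c * m * c⁻¹) = c3 m := by decide +kernel

theorem al1_cf (m c : M48) : al1 (c * m * c⁻¹) = al1 m := by
  unfold al1; rw [c8a_conj, c8b_conj]
theorem be2_cf (m c : M48) : be2 (c * m * c⁻¹) = be2 m := by
  unfold be2; rw [c8a_conj, c8b_conj]
theorem al3_cf (m c : M48) : al3 (c * m * c⁻¹) = al3 m := by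
  unfold al3; rw [c4_conj, c8a_conj, c8b_conj]
theorem al4_cf (m c : M48) : al4 (c * m * c⁻¹) = al4 m := by
  unfold al4; rw [cT_conj, c6_conj, c4_conj]
theorem be4_cf (m c : M48) : be4 (c * m * c⁻¹) = be4 m := by
  unfold be4; rw [c8a_conj, c8b_conj]
theorem al5_cf (m c : M48) : al5 (c * m * c⁻¹) = al5 m := by
  unfold al5; rw [cT_conj, c6_conj, c8a_conj, c8b_conj]

theorem al1_van : ∀ m : M48, sing m = false → al1 m = 0 := by decide +kernel
theorem be2_van : ∀ m : M48, sing m = false → be2 m = 0 := by decide +kernel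
theorem al3_van : ∀ m : M48, sing m = false → al3 m = 0 := by decide +kernel
theorem al4_van : ∀ m : M48, sing m = false → al4 m = 0 := by decide +kernel
theorem be4_van : ∀ m : M48, sing m = false → be4 m = 0 := by decide +kernel
theorem al5_van : ∀ m : M48, sing m = false → al5 m = 0 := by decide +kernel

/-! ### Sums (each equals `48` times the corresponding inner product) -/

theorem sum_al1 : ∑ m : M48, al1 m = 48 := by decide +kernel
theorem sum_be2 : ∑ m : M48, be2 m = 0 := by decide +kernel
theorem sum_al3 : ∑ m : M48, al3 m = 48 := by decide +kernel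
theorem sum_al4 : ∑ m : M48, al4 m = 0 := by decide +kernel
theorem sum_be4 : ∑ m : M48, be4 m = 0 := by decide +kernel
theorem sum_al5 : ∑ m : M48, al5 m = 48 := by decide +kernel

theorem sum_al1_al1 : ∑ m : M48, al1 m * al1 m = 192 := by decide +kernel
theorem sum_al1_be2 : ∑ m : M48, al1 m * be2 m = 0 := by decide +kernel
theorem sum_al1_al3 : ∑ m : M48, al1 m * al3 m = 96 := by decide +kernel
theorem sum_al1_al4 : ∑ m : M48, al1 m * al4 m = 0 := by decide +kernel
theorem sum_al1_be4 : ∑ m : M48, al1 m * be4 m = 0 := by decide +kernel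
theorem sum_al1_al5 : ∑ m : M48, al1 m * al5 m = 96 := by decide +kernel
theorem sum_be2_be2 : ∑ m : M48, be2 m * be2 m = 48 := by decide +kernel
theorem sum_be2_al3 : ∑ m : M48, be2 m * al3 m = 0 := by decide +kernel
theorem sum_be2_al4 : ∑ m : M48, be2 m * al4 m = 0 := by decide +kernel
theorem sum_be2_be4 : ∑ m : M48, be2 m * be4 m = -24 := by decide +kernel
theorem sum_be2_al5 : ∑ m : M48, be2 m * al5 m = 0 := by decide +kernel
theorem sum_al3_al3 : ∑ m : M48, al3 m * al3 m = 144 := by decide +kernel
theorem sum_al3_al4 : ∑ m : M48, al3 m * al4 m = 48 := by decide +kernel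
theorem sum_al3_be4 : ∑ m : M48, al3 m * be4 m = 0 := by decide +kernel
theorem sum_al3_al5 : ∑ m : M48, al3 m * al5 m = 48 := by decide +kernel
theorem sum_al4_al4 : ∑ m : M48, al4 m * al4 m = 72 := by decide +kernel
theorem sum_al4_be4 : ∑ m : M48, al4 m * be4 m = 0 := by decide +kernel
theorem sum_al4_al5 : ∑ m : M48, al4 m * al5 m = 0 := by decide +kernel
theorem sum_be4_be4 : ∑ m : M48, be4 m * be4 m = 12 := by decide +kernel
theorem sum_be4_al5 : ∑ m : M48, be4 m * al5 m = 0 := by decide +kernel
theorem sum_al5_al5 : ∑ m : M48, al5 m * al5 m = 144 := by decide +kernel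

/-! ### Local pair counts -/

/-- the involutions of the model -/
def invs : Finset M48 := Finset.univ.filter fun m => m * m = 1 ∧ m ≠ 1

theorem card_invs : invs.card = 13 := by decide +kernel

/-- the number of pairs of involutions with product `x` -/
def pc (x : M48) : ℕ := ((invs ×ˢ invs).filter fun p => p.1 * p.2 = x).card

theorem pc_tt : pc tt = 12 := by decide +kernel
theorem pc_c6 : ∀ x : M48, c6 x = true → pc x = 6 := by decide +kernel
theorem pc_c4 : ∀ x : M48, c4 x = true → pc x = 4 := by decide +kernel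
theorem pc_c8a : ∀ x : M48, c8a x = true → pc x = 0 := by decide +kernel
theorem pc_c8b : ∀ x : M48, c8b x = true → pc x = 0 := by decide +kernel

end Cfsg.Agent.S0197
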