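import Mathlib
import Cfsg.Agent.S0197.H5_Data

/-!
# S0197: class representatives in the model and sums over the singular classes
-/

set_option autoImplicit false

namespace Cfsg.Agent.S0197

/-- representative of the class of elements of order `6` -/
def r6 : M48 := ⟨((2, 1), (0, 2)), by decide⟩
/-- representative of the class of elements of order `4` -/
def r4 : M48 := ⟨((0, 1), (2, 0)), by decide⟩
/-- representative of the first class of elements of order `8` -/
def r8a : M48 := ⟨((1, 1), (1, 0)), by decide⟩
/-- representative of the second class of elements of order `8` -/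
def r8b : M48 := ⟨((2, 1), (1, 0)), by decide⟩

theorem cT_tt : cT tt = true := by decide +kernel
theorem c6_r6 : c6 r6 = true := by decide +kernel
theorem c4_r4 : c4 r4 = true := by decide +kernel
theorem c8a_r8a : c8a r8a = true := by decide +kernel
theorem c8b_r8b : c8b r8b = true := by decide +kernel

theorem sing_tt : sing tt = true := by decide +kernel
theorem sing_r6 : sing r6 = true := by decide +kernel
theorem sing_r4 : sing r4 = true := by decide +kernel
theorem sing_r8a : sing r8a = true := by decide +kernel
theorem sing_r8b : sing r8b = true := by decide +kernel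
theorem sing_one : sing (1 : M48) = false := by decide +kernel

theorem eq_of_cT : ∀ m : M48, cT m = true → m = tt := by decide +kernel
theorem conj_of_c6 : ∀ m : M48, c6 m = true → ∃ c : M48, c * r6 * c⁻¹ = m := by decide +kernel
theorem conj_of_c4 : ∀ m : M48, c4 m = true → ∃ c : M48, c * r4 * c⁻¹ = m := by decide +kernel
theorem conj_of_c8a : ∀ m : M48, c8a m = true → ∃ c : M48, c * r8a * c⁻¹ = m := by decide +kernel
theorem conj_of_c8b : ∀ m : M48, c8b m = true → ∃ c : M48, c * r8b * c⁻¹ = m := by decide +kernel

theorem card_cT : (Finset.univ.filter fun m : M48 => cT m = true).card = 1 := by decide +kernel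
theorem card_c6 : (Finset.univ.filter fun m : M48 => c6 m = true).card = 8 := by decide +kernel
theorem card_c4 : (Finset.univ.filter fun m : M48 => c4 m = true).card = 6 := by decide +kernel
theorem card_c8a : (Finset.univ.filter fun m : M48 => c8a m = true).card = 6 := by decide +kernel
theorem card_c8b : (Finset.univ.filter fun m : M48 => c8b m = true).card = 6 := by decide +kernel

/-- the singular classes are disjoint and cover `sing` -/
theorem sing_split : ∀ m : M48,
    (if sing m = true then 1 else 0 : ℕ) =
      (if cT m = true then 1 else 0) + (if c6 m = true then 1 else 0) +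
        (if c4 m = true then 1 else 0) + (if c8a m = true then 1 else 0) +
          (if c8b m = true then 1 else 0) := by decide +kernel

/-- values of the integer parts at the representatives -/
theorem al_be_values :
    al1 tt = 0 ∧ al1 r6 = 0 ∧ al1 r4 = 0 ∧ al1 r8a = 4 ∧ al1 r8b = 4 ∧
    be2 tt = 0 ∧ be2 r6 = 0 ∧ be2 r4 = 0 ∧ be2 r8a = 2 ∧ be2 r8b = -2 ∧
    al3 tt = 0 ∧ al3 r6 = 0 ∧ al3 r4 = 4 ∧ al3 r8a = 2 ∧ al3 r8b = 2 ∧
    al4 tt = 4 ∧ al4 r6 = -2 ∧ al4 r4 = 2 ∧ al4 r8a = 0 ∧ al4 r8b = 0 ∧
    be4 tt = 0 ∧ be4 r6 = 0 ∧ be4 r4 = 0 ∧ be4 r8a = -1 ∧ be4 r8b = 1 ∧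
    al5 tt = 8 ∧ al5 r6 = 2 ∧ al5 r4 = 0 ∧ al5 r8a = 2 ∧ al5 r8b = 2 := by decide +kernel

/-- Sum of a class function over one class. -/
theorem sum_class (p : M48 → Bool) (r : M48) (H : M48 → ℂ)
    (hH : ∀ m c : M48, H (c * m * c⁻¹) = H m)
    (hconj : ∀ m : M48, p m = true → ∃ c : M48, c * r * c⁻¹ = m) :
    ∑ m : M48, (if p m = true then H m else 0) =
      ((Finset.univ.filter fun m : M48 => p m = true).card : ℂ) * H r := by
  rw [← Finset.sum_filter, Finset.sum_congr rfl (g := fun _ => H r), Finset.sum_const,
    nsmul_eq_mul]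
  intro m hm
  obtain ⟨c, rfl⟩ := hconj m (Finset.mem_filter.mp hm).2
  exact hH r c

/-- Sum over the model of a class function vanishing off the singular set. -/
theorem sum_sing (H : M48 → ℂ) (hH : ∀ m c : M48, H (c * m * c⁻¹) = H m)
    (hvan : ∀ m : M48, sing m = false → H m = 0) :
    ∑ m : M48, H m = H tt + 8 * H r6 + 6 * H r4 + 6 * H r8a + 6 * H r8b := by
  have h1 : ∀ m : M48, H m = (if cT m = true then H m else 0) + (if c6 m = true then H m else 0) +
      (if c4 m = true then H m else 0) + (if c8a m = true then H m else 0) +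
        (if c8b m = true then H m else 0) := by
    intro m
    have hs := sing_split m
    by_cases h0 : sing m = true
    · rw [if_pos h0] at hs
      by_cases a1 : cT m = true <;> by_cases a2 : c6 m = true <;> by_cases a3 : c4 m = true <;>
        by_cases a4 : c8a m = true <;> by_cases a5 : c8b m = true <;>
        simp only [a1, a2, a3, a4, a5, if_true, if_false, Bool.false_eq_true] at hs ⊢ <;>
        first | omega | simp
    · rw [Bool.not_eq_true] at h0
      rw [hvan m h0]
      simp
  rw [Finset.sum_congr rfl (fun m _ => h1 m), Finset.sum_add_distrib, Finset.sum_add_distrib,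
    Finset.sum_add_distrib, Finset.sum_add_distrib,
    sum_class cT tt H hH (fun m hm => ⟨1, by rw [eq_of_cT m hm]; group⟩),
    sum_class c6 r6 H hH conj_of_c6, sum_class c4 r4 H hH conj_of_c4,
    sum_class c8a r8a H hH conj_of_c8a, sum_class c8b r8b H hH conj_of_c8b,
    card_cT, card_c6, card_c4, card_c8a, card_c8b]
  push_cast
  ring

end Cfsg.Agent.S0197
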