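import Mathlib
import Cfsg.Prelude.Def_Characters
import Cfsg.Agent.H72.H1_GSetup

/-!
# Complex valued model functions on helper1's `GSetup`

`GSetup.Theta` takes integer valued functions on the model.  For S0197 two of the five class
functions have values in `ℤ[i√2]`, so we repeat the (short) API for complex valued functions:
`h5_ThetaC S d` is the function on `G` induced from `d ∘ e`.
-/

set_option autoImplicit false
set_option linter.style.haveILetI false

namespace Cfsg.Agent.S0197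

open Cfsg.Agent.Helper6 Cfsg.Agent.Helper6.H72
open scoped ComplexConjugate

universe u v

variable {G : Type u} [Group G] {Mdl : Type v} [Group Mdl] {sing : Mdl → Bool}
  (S : GSetup G Mdl sing)

/-- the function on `N` given by a complex function on the model -/
def h5_phiC (d : Mdl → ℂ) : S.N → ℂ := fun n => d (S.e n)

/-- the induced function -/
noncomputable def h5_ThetaC [Fintype G] (d : Mdl → ℂ) : G → ℂ := Cfsg.indFun S.N (h5_phiC S d)

theorem h5_Theta_eq [Fintype G] (d : Mdl → ℤ) : S.Theta d = h5_ThetaC S (fun m => (d m : ℂ)) := rfl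

theorem h5_phiC_vanish (d : Mdl → ℂ) (hd : ∀ m, sing m = false → d m = 0) (x : S.N)
    (hx : (x : G) ∉ S.A) : h5_phiC S d x = 0 := by
  unfold h5_phiC
  rw [hd]
  by_contra h
  rw [Bool.not_eq_false] at h
  apply hx
  rw [← S.ι_e x, S.ι_mem_A_iff]
  exact h

theorem h5_phiC_classFunction (d : Mdl → ℂ) (hcf : ∀ m c, d (c * m * c⁻¹) = d m) :
    Cfsg.IsClassFunction S.N (h5_phiC S d) := by
  intro g h
  unfold h5_phiC
  rw [map_mul, map_mul, map_inv, hcf]

theorem h5_isGenChar_ThetaC [Fintype G] (d : Mdl → ℂ)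
    (hd : Cfsg.IsGeneralizedCharacter Mdl d) :
    Cfsg.IsGeneralizedCharacter G (h5_ThetaC S d) :=
  IsGeneralizedCharacter.indFun S.N (IsGeneralizedCharacter.comp_hom' S.e.toMonoidHom hd)

theorem h5_ThetaC_isClassFunction [Fintype G] (d : Mdl → ℂ) :
    Cfsg.IsClassFunction G (h5_ThetaC S d) :=
  indFun_isClassFunction S.N (h5_phiC S d)

theorem h5_classInner_ThetaC [Fintype G] [Fintype Mdl] (d d' : Mdl → ℂ)
    (hd : ∀ m, sing m = false → d m = 0)
    (hd' : ∀ m, sing m = false → d' m = 0) (hcf : ∀ m c, d' (c * m * c⁻¹) = d' m) :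
    Cfsg.classInner (h5_ThetaC S d) (h5_ThetaC S d') =
      (Fintype.card Mdl : ℂ)⁻¹ * ∑ m : Mdl, d m * conj (d' m) := by
  classical
  haveI : Fintype S.N := Fintype.ofFinite S.N
  unfold h5_ThetaC
  rw [h1_classInner_indFun_indFun_of_TI S.N S.A (h5_phiC S d) (h5_phiC S d')
    (h5_phiC_classFunction S d' hcf) (h5_phiC_vanish S d hd) (h5_phiC_vanish S d' hd') S.hTI_A]
  unfold Cfsg.classInner
  rw [S.card_N]
  congr 1
  exact S.sum_phi (fun m => d m * conj (d' m))

/-- Frobenius reciprocity, transported to the model. -/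
theorem h5_classInner_ThetaC_left [Fintype G] [Fintype Mdl] (d : Mdl → ℂ) (χ : G → ℂ)
    (hχ : Cfsg.IsClassFunction G χ) :
    Cfsg.classInner (h5_ThetaC S d) χ =
      (Fintype.card Mdl : ℂ)⁻¹ * ∑ m : Mdl, d m * conj (χ (S.ι m)) := by
  classical
  haveI : Fintype S.N := Fintype.ofFinite S.N
  unfold h5_ThetaC
  rw [frobenius_reciprocity S.N (h5_phiC S d) _ hχ]
  unfold Cfsg.classInner
  rw [S.card_N]
  congr 1
  have h2 : ∑ n : S.N, h5_phiC S d n * conj ((fun h : S.N => χ h) n) =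
      ∑ n : S.N, (fun m => d m * conj (χ (S.ι m))) (S.e n) := by
    apply Finset.sum_congr rfl
    intro n _
    show d (S.e n) * conj (χ (n : G)) = d (S.e n) * conj (χ (S.ι (S.e n)))
    rw [S.ι_e]
  rw [h2]
  exact S.sum_phi (fun m => d m * conj (χ (S.ι m)))

theorem h5_ThetaC_apply_ι [Fintype G] (d : Mdl → ℂ) (hd : ∀ m, sing m = false → d m = 0)
    (hcf : ∀ m c, d (c * m * c⁻¹) = d m) (m : Mdl) (hm : sing m = true) :
    h5_ThetaC S d (S.ι m) = d m := by
  unfold h5_ThetaC
  have h := h1_indFun_apply_of_TI S.N S.A (h5_phiC S d) (h5_phiC_classFunction S d hcf)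
    (h5_phiC_vanish S d hd) S.hTI_A ⟨S.ι m, S.ι_mem m⟩ ((S.ι_mem_A_iff m).mpr hm)
  rw [h]
  unfold h5_phiC
  rw [S.e_ι]

theorem h5_ThetaC_eq_zero [Fintype G] (d : Mdl → ℂ) (hd : ∀ m, sing m = false → d m = 0) (g : G)
    (hg : ∀ z : G, z⁻¹ * g * z ∉ S.A) : h5_ThetaC S d g = 0 :=
  h1_indFun_eq_zero_of_not_conj S.N S.A (h5_phiC S d) (h5_phiC_vanish S d hd) g hg

/-- `ThetaC d` vanishes at `1` as soon as `1` is not singular. -/
theorem h5_ThetaC_one [Fintype G] (d : Mdl → ℂ) (hd : ∀ m, sing m = false → d m = 0)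
    (h1 : sing 1 = false) : h5_ThetaC S d 1 = 0 := by
  apply h5_ThetaC_eq_zero S d hd
  intro z hz
  obtain ⟨m, hm, hmz⟩ := hz
  have : S.ι m = 1 := by rw [hmz]; group
  rw [S.ι_eq_one_iff] at this
  rw [this, h1] at hm
  exact Bool.false_ne_true hm

end Cfsg.Agent.S0197
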