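import Mathlib
import Cfsg.Prelude.Def_Characters
import Cfsg.Agent.Helper6.Expansion
import Cfsg.Agent.Helper6.OddReal
import Cfsg.Agent.Helper6.BlockPart
import Cfsg.Agent.Helper6.NormTwo
import Cfsg.Agent.Helper6.ClassInner
import Cfsg.Agent.S0197.H5_Data
import Cfsg.Agent.S0197.H5_Reps
import Cfsg.Agent.S0197.H5_ThetaC

/-!
# S0197: the five induced generalized characters and the values of the irreducible characters
on the set `A`  (sections 2 of `notes/S0197_blueprint_helper3.md`)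
-/

set_option autoImplicit false
set_option linter.style.haveILetI false

namespace Cfsg.Agent.S0197

open Cfsg.Agent.Helper6 Cfsg.Agent.Helper6.H72
open scoped ComplexConjugate

universe u

/-- `i√2` -/
noncomputable def s2 : ℂ := Complex.I * ((Real.sqrt 2 : ℝ) : ℂ)

theorem s2_mul_self : s2 * s2 = -2 := by
  unfold s2
  have h : ((Real.sqrt 2 : ℝ) : ℂ) * ((Real.sqrt 2 : ℝ) : ℂ) = 2 := by
    rw [← Complex.ofReal_mul, Real.mul_self_sqrt (by norm_num)]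
    norm_num
  calc Complex.I * ((Real.sqrt 2 : ℝ) : ℂ) * (Complex.I * ((Real.sqrt 2 : ℝ) : ℂ))
      = (Complex.I * Complex.I) * (((Real.sqrt 2 : ℝ) : ℂ) * ((Real.sqrt 2 : ℝ) : ℂ)) := by ring
    _ = -2 := by rw [h, Complex.I_mul_I]; ring

theorem conj_s2 : conj s2 = -s2 := by
  unfold s2
  rw [map_mul, Complex.conj_I, Complex.conj_ofReal]
  ring

theorem s2_ne_zero : s2 ≠ 0 := by
  intro h
  have := s2_mul_self
  rw [h] at this
  norm_num at this

/-- a model function with values in `ℤ[i√2]` -/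
noncomputable def zf (a b : M48 → ℤ) : M48 → ℂ := fun m => (a m : ℂ) + s2 * (b m : ℂ)

/-- the zero function -/
def z0 : M48 → ℤ := fun _ => 0

/-- `θ1 … θ5` as complex functions on the model -/
noncomputable def th1 : M48 → ℂ := zf al1 z0
/-- `θ2` -/
noncomputable def th2 : M48 → ℂ := zf z0 be2
/-- `θ3` -/
noncomputable def th3 : M48 → ℂ := zf al3 z0
/-- `θ4` -/
noncomputable def th4 : M48 → ℂ := zf al4 be4
/-- `θ5` -/
noncomputable def th5 : M48 → ℂ := zf al5 z0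

theorem z0_cf (m c : M48) : z0 (c * m * c⁻¹) = z0 m := rfl
theorem z0_van (m : M48) (_ : sing m = false) : z0 m = 0 := rfl

theorem zf_cf (a b : M48 → ℤ) (ha : ∀ m c, a (c * m * c⁻¹) = a m)
    (hb : ∀ m c, b (c * m * c⁻¹) = b m) (m c : M48) : zf a b (c * m * c⁻¹) = zf a b m := by
  unfold zf
  rw [ha, hb]

theorem zf_van (a b : M48 → ℤ) (ha : ∀ m, sing m = false → a m = 0)
    (hb : ∀ m, sing m = false → b m = 0) (m : M48) (hm : sing m = false) : zf a b m = 0 := by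
  unfold zf
  rw [ha m hm, hb m hm]
  simp

theorem conj_zf (a b : M48 → ℤ) (m : M48) :
    conj (zf a b m) = (a m : ℂ) - s2 * (b m : ℂ) := by
  unfold zf
  rw [map_add, map_mul, conj_s2, map_intCast, map_intCast]
  ring

/-- The Gram sum of two `ℤ[i√2]`-valued functions. -/
theorem sum_zf_conj (a b a' b' : M48 → ℤ) :
    ∑ m : M48, zf a b m * conj (zf a' b' m) =
      ((∑ m : M48, a m * a' m : ℤ) : ℂ) + 2 * ((∑ m : M48, b m * b' m : ℤ) : ℂ) +
        s2 * (((∑ m : M48, b m * a' m : ℤ) : ℂ) - ((∑ m : M48, a m * b' m : ℤ) : ℂ)) := by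
  have h1 : ∑ m : M48, zf a b m * conj (zf a' b' m) =
      ∑ m : M48, ((a m : ℂ) * (a' m : ℂ) + 2 * ((b m : ℂ) * (b' m : ℂ)) +
        s2 * ((b m : ℂ) * (a' m : ℂ) - (a m : ℂ) * (b' m : ℂ))) := by
    apply Finset.sum_congr rfl
    intro m _
    rw [conj_zf]
    unfold zf
    have h := s2_mul_self
    linear_combination (-(b m : ℂ) * (b' m : ℂ)) * h
  rw [h1, Finset.sum_add_distrib, Finset.sum_add_distrib, ← Finset.mul_sum, ← Finset.mul_sum,
    Finset.sum_sub_distrib]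
  push_cast
  rfl

theorem sum_zf (a b : M48 → ℤ) :
    ∑ m : M48, zf a b m = ((∑ m : M48, a m : ℤ) : ℂ) + s2 * ((∑ m : M48, b m : ℤ) : ℂ) := by
  unfold zf
  rw [Finset.sum_add_distrib, ← Finset.mul_sum]
  push_cast
  rfl

/-! ### The induced functions -/

section induced

variable {G : Type u} [Group G] [Fintype G] (S : GSetup G M48 sing)

/-- `Θ1` -/
noncomputable def Th1 : G → ℂ := h5_ThetaC S th1
/-- `Θ2` -/
noncomputable def Th2 : G → ℂ := h5_ThetaC S th2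
/-- `Θ3` -/
noncomputable def Th3 : G → ℂ := h5_ThetaC S th3
/-- `Θ4` -/
noncomputable def Th4 : G → ℂ := h5_ThetaC S th4
/-- `Θ5` -/
noncomputable def Th5 : G → ℂ := h5_ThetaC S th5

theorem th1_cf : ∀ m c : M48, th1 (c * m * c⁻¹) = th1 m := zf_cf _ _ al1_cf z0_cf
theorem th2_cf : ∀ m c : M48, th2 (c * m * c⁻¹) = th2 m := zf_cf _ _ z0_cf be2_cf
theorem th3_cf : ∀ m c : M48, th3 (c * m * c⁻¹) = th3 m := zf_cf _ _ al3_cf z0_cf
theorem th4_cf : ∀ m c : M48, th4 (c * m * c⁻¹) = th4 m := zf_cf _ _ al4_cf be4_cf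
theorem th5_cf : ∀ m c : M48, th5 (c * m * c⁻¹) = th5 m := zf_cf _ _ al5_cf z0_cf

theorem th1_van : ∀ m : M48, sing m = false → th1 m = 0 := zf_van _ _ al1_van z0_van
theorem th2_van : ∀ m : M48, sing m = false → th2 m = 0 := zf_van _ _ z0_van be2_van
theorem th3_van : ∀ m : M48, sing m = false → th3 m = 0 := zf_van _ _ al3_van z0_van
theorem th4_van : ∀ m : M48, sing m = false → th4 m = 0 := zf_van _ _ al4_van be4_van
theorem th5_van : ∀ m : M48, sing m = false → th5 m = 0 := zf_van _ _ al5_van z0_van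

theorem card_M48_C : (Fintype.card M48 : ℂ) = 48 := by rw [card_M48]; norm_num

/-- the inner product of an induced function with a class function, as a sum over five classes -/
theorem classInner_zf (a b : M48 → ℤ) (ha : ∀ m c, a (c * m * c⁻¹) = a m)
    (hb : ∀ m c, b (c * m * c⁻¹) = b m) (hva : ∀ m, sing m = false → a m = 0)
    (hvb : ∀ m, sing m = false → b m = 0) (χ : G → ℂ) (hχ : Cfsg.IsClassFunction G χ) :
    48 * Cfsg.classInner (h5_ThetaC S (zf a b)) χ =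
      zf a b tt * conj (χ (S.ι tt)) + 8 * (zf a b r6 * conj (χ (S.ι r6))) +
        6 * (zf a b r4 * conj (χ (S.ι r4))) + 6 * (zf a b r8a * conj (χ (S.ι r8a))) +
          6 * (zf a b r8b * conj (χ (S.ι r8b))) := by
  rw [h5_classInner_ThetaC_left S (zf a b) χ hχ, card_M48_C, ← mul_assoc,
    mul_inv_cancel₀ (by norm_num), one_mul]
  apply sum_sing (fun m => zf a b m * conj (χ (S.ι m)))
  · intro m c
    show zf a b (c * m * c⁻¹) * conj (χ (S.ι (c * m * c⁻¹))) = _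
    rw [zf_cf a b ha hb, map_mul, map_mul, map_inv]
    have := hχ (S.ι m) (S.ι c)
    rw [this]
  · intro m hm
    show zf a b m * _ = 0
    rw [zf_van a b hva hvb m hm, zero_mul]

/-- **The values on `A`** of a class function `χ` of `G` in terms of its inner products
`m i = ⟨Θi, χ⟩` (blueprint, section 2). -/
theorem values_of_inner (χ : G → ℂ) (hχ : Cfsg.IsClassFunction G χ) (m1 m2 m3 m4 m5 : ℤ)
    (h1 : Cfsg.classInner (Th1 S) χ = m1) (h2 : Cfsg.classInner (Th2 S) χ = m2)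
    (h3 : Cfsg.classInner (Th3 S) χ = m3) (h4 : Cfsg.classInner (Th4 S) χ = m4)
    (h5 : Cfsg.classInner (Th5 S) χ = m5) :
    χ (S.ι r8a) = m1 + s2 * m2 ∧ χ (S.ι r8b) = m1 - s2 * m2 ∧ χ (S.ι r4) = 2 * m3 - m1 ∧
      χ (S.ι tt) = 4 * m4 + 4 * m5 - 2 * m3 - m1 + 2 * m2 ∧
      χ (S.ι r6) = m5 - m1 - 2 * m4 + m3 - m2 := by
  obtain ⟨v1, v2, v3, v4, v5, v6, v7, v8, v9, v10, v11, v12, v13, v14, v15, v16, v17, v18, v19,
    v20, v21, v22, v23, v24, v25, v26, v27, v28, v29, v30⟩ := al_be_values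
  have e1 := classInner_zf S al1 z0 al1_cf z0_cf al1_van z0_van χ hχ
  have e2 := classInner_zf S z0 be2 z0_cf be2_cf z0_van be2_van χ hχ
  have e3 := classInner_zf S al3 z0 al3_cf z0_cf al3_van z0_van χ hχ
  have e4 := classInner_zf S al4 be4 al4_cf be4_cf al4_van be4_van χ hχ
  have e5 := classInner_zf S al5 z0 al5_cf z0_cf al5_van z0_van χ hχ
  change 48 * Cfsg.classInner (Th1 S) χ = _ at e1
  change 48 * Cfsg.classInner (Th2 S) χ = _ at e2
  change 48 * Cfsg.classInner (Th3 S) χ = _ at e3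
  change 48 * Cfsg.classInner (Th4 S) χ = _ at e4
  change 48 * Cfsg.classInner (Th5 S) χ = _ at e5
  rw [h1] at e1
  rw [h2] at e2
  rw [h3] at e3
  rw [h4] at e4
  rw [h5] at e5
  unfold zf at e1 e2 e3 e4 e5
  unfold z0 at e1 e2 e3 e5
  rw [v1, v2, v3, v4, v5] at e1
  rw [v6, v7, v8, v9, v10] at e2
  rw [v11, v12, v13, v14, v15] at e3
  rw [v16, v17, v18, v19, v20, v21, v22, v23, v24, v25] at e4
  rw [v26, v27, v28, v29, v30] at e5
  push_cast at e1 e2 e3 e4 e5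
  -- the five unknowns
  obtain ⟨Xt, hXt⟩ : ∃ X : ℂ, X = conj (χ (S.ι tt)) := ⟨_, rfl⟩
  obtain ⟨X6, hX6⟩ : ∃ X : ℂ, X = conj (χ (S.ι r6)) := ⟨_, rfl⟩
  obtain ⟨X4, hX4⟩ : ∃ X : ℂ, X = conj (χ (S.ι r4)) := ⟨_, rfl⟩
  obtain ⟨Xa, hXa⟩ : ∃ X : ℂ, X = conj (χ (S.ι r8a)) := ⟨_, rfl⟩
  obtain ⟨Xb, hXb⟩ : ∃ X : ℂ, X = conj (χ (S.ι r8b)) := ⟨_, rfl⟩
  rw [← hXt, ← hX6, ← hX4, ← hXa, ← hXb] at e1 e2 e3 e4 e5
  have hs := s2_mul_self
  have ra : Xa = m1 - s2 * m2 := by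
    linear_combination (-(1 : ℂ) / 48) * e1 + (s2 / 48) * e2 + ((Xa - Xb) / 4) * hs
  have rb : Xb = m1 + s2 * m2 := by
    linear_combination (-(1 : ℂ) / 48) * e1 - (s2 / 48) * e2 - ((Xa - Xb) / 4) * hs
  have r4' : X4 = 2 * m3 - m1 := by
    linear_combination (-(1 : ℂ) / 24) * e3 + ((1 : ℂ) / 48) * e1
  have rt : Xt = 4 * m4 + 4 * m5 - 2 * m3 - m1 + 2 * m2 := by
    linear_combination (-(1 : ℂ) / 12) * e4 + (-(1 : ℂ) / 12) * e5 - r4' - ra - rb +
      (s2 / 2) * ra - (s2 / 2) * rb - (m2 : ℂ) * hs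
  have r6' : X6 = m5 - m1 - 2 * m4 + m3 - m2 := by
    linear_combination (-(1 : ℂ) / 16) * e5 - (1 / 2) * rt - (3 / 4) * ra - (3 / 4) * rb
  have ca : χ (S.ι r8a) = conj Xa := by rw [hXa, Complex.conj_conj]
  have cb : χ (S.ι r8b) = conj Xb := by rw [hXb, Complex.conj_conj]
  have c4' : χ (S.ι r4) = conj X4 := by rw [hX4, Complex.conj_conj]
  have ct : χ (S.ι tt) = conj Xt := by rw [hXt, Complex.conj_conj]
  have c6' : χ (S.ι r6) = conj X6 := by rw [hX6, Complex.conj_conj]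
  rw [ca, cb, c4', ct, c6', ra, rb, r4', rt, r6']
  simp only [map_sub, map_add, map_mul, map_intCast, conj_s2, Complex.conj_ofNat]
  refine ⟨by ring, by ring, trivial, trivial, trivial⟩

end induced

/-! ### Gram matrix, trivial character, degrees -/

section frame

variable {G : Type u} [Group G] [Fintype G] [Fintype (Cfsg.IrrCharacter G)]
  (S : GSetup G M48 sing)

/-- bilinear Parseval -/
theorem h5_parseval (φ ψ : G → ℂ) (hφ : Cfsg.IsClassFunction G φ) :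
    Cfsg.classInner φ ψ = ∑ Ξ : Cfsg.IrrCharacter G,
      Cfsg.classInner φ (Ξ : G → ℂ) * conj (Cfsg.classInner ψ (Ξ : G → ℂ)) := by
  have h1 : Cfsg.classInner φ ψ = Cfsg.classInner
      (∑ Ξ : Cfsg.IrrCharacter G, Cfsg.classInner φ (Ξ : G → ℂ) • (Ξ : G → ℂ)) ψ := by
    rw [← classFunction_expansion φ hφ]
  rw [h1, classInner_sum_left]
  apply Finset.sum_congr rfl
  intro Ξ _
  rw [classInner_smul_left, classInner_conj_symm ψ (Ξ : G → ℂ)]

/-- Gram entry of two induced `ℤ[i√2]`-functions in terms of integer coefficient functions. -/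
theorem gram_zf (a b a' b' : M48 → ℤ) (ha : ∀ m c, a (c * m * c⁻¹) = a m)
    (hb : ∀ m c, b (c * m * c⁻¹) = b m) (hva : ∀ m, sing m = false → a m = 0)
    (hvb : ∀ m, sing m = false → b m = 0) (ha' : ∀ m c, a' (c * m * c⁻¹) = a' m)
    (hb' : ∀ m c, b' (c * m * c⁻¹) = b' m) (hva' : ∀ m, sing m = false → a' m = 0)
    (hvb' : ∀ m, sing m = false → b' m = 0) (p q : Cfsg.IrrCharacter G → ℤ)
    (hp : ∀ χ : Cfsg.IrrCharacter G, Cfsg.classInner (h5_ThetaC S (zf a b)) (χ : G → ℂ) = p χ)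
    (hq : ∀ χ : Cfsg.IrrCharacter G, Cfsg.classInner (h5_ThetaC S (zf a' b')) (χ : G → ℂ) = q χ) :
    48 * ((∑ χ : Cfsg.IrrCharacter G, p χ * q χ : ℤ) : ℂ) =
      ((∑ m : M48, a m * a' m : ℤ) : ℂ) + 2 * ((∑ m : M48, b m * b' m : ℤ) : ℂ) +
        s2 * (((∑ m : M48, b m * a' m : ℤ) : ℂ) - ((∑ m : M48, a m * b' m : ℤ) : ℂ)) := by
  rw [← sum_zf_conj]
  have h1 := h5_classInner_ThetaC S (zf a b) (zf a' b') (zf_van a b hva hvb)
    (zf_van a' b' hva' hvb') (zf_cf a' b' ha' hb')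
  rw [h5_parseval _ _ (h5_ThetaC_isClassFunction S (zf a b)), card_M48_C] at h1
  have h2 : ∑ Ξ : Cfsg.IrrCharacter G, Cfsg.classInner (h5_ThetaC S (zf a b)) (Ξ : G → ℂ) *
      conj (Cfsg.classInner (h5_ThetaC S (zf a' b')) (Ξ : G → ℂ)) =
      ((∑ χ : Cfsg.IrrCharacter G, p χ * q χ : ℤ) : ℂ) := by
    push_cast
    apply Finset.sum_congr rfl
    intro Ξ _
    rw [hp, hq, map_intCast]
  rw [h2] at h1
  rw [h1, ← mul_assoc, mul_inv_cancel₀ (by norm_num), one_mul]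

/-- inner product with the trivial character -/
theorem triv_zf (a b : M48 → ℤ) :
    48 * Cfsg.classInner (h5_ThetaC S (zf a b)) (fun _ : G => (1 : ℂ)) =
      ((∑ m : M48, a m : ℤ) : ℂ) + s2 * ((∑ m : M48, b m : ℤ) : ℂ) := by
  rw [h5_classInner_ThetaC_left S (zf a b) _ (fun _ _ => rfl), card_M48_C, ← mul_assoc,
    mul_inv_cancel₀ (by norm_num), one_mul, ← sum_zf]
  apply Finset.sum_congr rfl
  intro m _
  simp

/-- the degree equation -/
theorem degree_zf (d : M48 → ℂ) (hd : ∀ m, sing m = false → d m = 0)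
    (p : Cfsg.IrrCharacter G → ℤ)
    (hp : ∀ χ : Cfsg.IrrCharacter G, Cfsg.classInner (h5_ThetaC S d) (χ : G → ℂ) = p χ) :
    ∑ χ : Cfsg.IrrCharacter G, p χ * (Cfsg.charDegree (χ : G → ℂ) : ℤ) = 0 := by
  have h1 := h5_ThetaC_one S d hd sing_one
  have h2 := classFunction_expansion (h5_ThetaC S d) (h5_ThetaC_isClassFunction S d)
  have h3 := congrFun h2 1
  rw [h1, Finset.sum_apply] at h3
  have h4 : (((∑ χ : Cfsg.IrrCharacter G, p χ * (Cfsg.charDegree (χ : G → ℂ) : ℤ) : ℤ)) : ℂ) = 0 := by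
    rw [h3]
    push_cast
    apply Finset.sum_congr rfl
    intro χ _
    rw [Pi.smul_apply, smul_eq_mul, hp,
      charDegree_cast_of_isCharacter (IsIrrCharacter.isCharacter χ.2)]
  exact_mod_cast h4

/-- the trivial character -/
noncomputable def trivIrr (G : Type u) [Group G] : Cfsg.IrrCharacter G :=
  ⟨fun _ => (1 : ℂ), isIrrCharacter_one⟩

/-- an integer equation from a complex one -/
theorem int_of_complex (X A : ℤ) (h : 48 * (X : ℂ) = (A : ℂ)) : 48 * X = A := by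
  exact_mod_cast h

set_option maxHeartbeats 1600000 in
/-- **The frame**: the integer coefficient functions `m i = ⟨Θi, ·⟩` with their Gram matrix,
their values at the trivial character and the degree equations (input of the embedding
analysis, blueprint section 3). -/
theorem frame (hg1 : Cfsg.IsGeneralizedCharacter M48 th1)
    (hg2 : Cfsg.IsGeneralizedCharacter M48 th2) (hg3 : Cfsg.IsGeneralizedCharacter M48 th3)
    (hg4 : Cfsg.IsGeneralizedCharacter M48 th4) (hg5 : Cfsg.IsGeneralizedCharacter M48 th5) :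
    ∃ m1 m2 m3 m4 m5 : Cfsg.IrrCharacter G → ℤ,
      (∀ χ : Cfsg.IrrCharacter G, Cfsg.classInner (Th1 S) (χ : G → ℂ) = m1 χ) ∧
      (∀ χ : Cfsg.IrrCharacter G, Cfsg.classInner (Th2 S) (χ : G → ℂ) = m2 χ) ∧
      (∀ χ : Cfsg.IrrCharacter G, Cfsg.classInner (Th3 S) (χ : G → ℂ) = m3 χ) ∧
      (∀ χ : Cfsg.IrrCharacter G, Cfsg.classInner (Th4 S) (χ : G → ℂ) = m4 χ) ∧
      (∀ χ : Cfsg.IrrCharacter G, Cfsg.classInner (Th5 S) (χ : G → ℂ) = m5 χ) ∧
      (∑ χ, m1 χ * m1 χ = 4 ∧ ∑ χ, m1 χ * m2 χ = 0 ∧ ∑ χ, m1 χ * m3 χ = 2 ∧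
        ∑ χ, m1 χ * m4 χ = 0 ∧ ∑ χ, m1 χ * m5 χ = 2 ∧ ∑ χ, m2 χ * m2 χ = 2 ∧
        ∑ χ, m2 χ * m3 χ = 0 ∧ ∑ χ, m2 χ * m4 χ = -1 ∧ ∑ χ, m2 χ * m5 χ = 0 ∧
        ∑ χ, m3 χ * m3 χ = 3 ∧ ∑ χ, m3 χ * m4 χ = 1 ∧ ∑ χ, m3 χ * m5 χ = 1 ∧
        ∑ χ, m4 χ * m4 χ = 2 ∧ ∑ χ, m4 χ * m5 χ = 0 ∧ ∑ χ, m5 χ * m5 χ = 3) ∧
      (m1 (trivIrr G) = 1 ∧ m2 (trivIrr G) = 0 ∧ m3 (trivIrr G) = 1 ∧ m4 (trivIrr G) = 0 ∧
        m5 (trivIrr G) = 1) ∧
      (∑ χ, m1 χ * (Cfsg.charDegree (χ : G → ℂ) : ℤ) = 0 ∧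
        ∑ χ, m2 χ * (Cfsg.charDegree (χ : G → ℂ) : ℤ) = 0 ∧
        ∑ χ, m3 χ * (Cfsg.charDegree (χ : G → ℂ) : ℤ) = 0 ∧
        ∑ χ, m4 χ * (Cfsg.charDegree (χ : G → ℂ) : ℤ) = 0 ∧
        ∑ χ, m5 χ * (Cfsg.charDegree (χ : G → ℂ) : ℤ) = 0) := by
  have k1 := fun χ : Cfsg.IrrCharacter G => IsGeneralizedCharacter.classInner_irr_int
    (h5_isGenChar_ThetaC S th1 hg1) χ.2
  have k2 := fun χ : Cfsg.IrrCharacter G => IsGeneralizedCharacter.classInner_irr_int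
    (h5_isGenChar_ThetaC S th2 hg2) χ.2
  have k3 := fun χ : Cfsg.IrrCharacter G => IsGeneralizedCharacter.classInner_irr_int
    (h5_isGenChar_ThetaC S th3 hg3) χ.2
  have k4 := fun χ : Cfsg.IrrCharacter G => IsGeneralizedCharacter.classInner_irr_int
    (h5_isGenChar_ThetaC S th4 hg4) χ.2
  have k5 := fun χ : Cfsg.IrrCharacter G => IsGeneralizedCharacter.classInner_irr_int
    (h5_isGenChar_ThetaC S th5 hg5) χ.2
  choose m1 hm1 using k1
  choose m2 hm2 using k2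
  choose m3 hm3 using k3
  choose m4 hm4 using k4
  choose m5 hm5 using k5
  have g11 := gram_zf S al1 z0 al1 z0 al1_cf z0_cf al1_van z0_van al1_cf z0_cf al1_van z0_van
    m1 m1 hm1 hm1
  have g12 := gram_zf S al1 z0 z0 be2 al1_cf z0_cf al1_van z0_van z0_cf be2_cf z0_van be2_van
    m1 m2 hm1 hm2
  have g13 := gram_zf S al1 z0 al3 z0 al1_cf z0_cf al1_van z0_van al3_cf z0_cf al3_van z0_van
    m1 m3 hm1 hm3
  have g14 := gram_zf S al1 z0 al4 be4 al1_cf z0_cf al1_van z0_van al4_cf be4_cf al4_van be4_van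
    m1 m4 hm1 hm4
  have g15 := gram_zf S al1 z0 al5 z0 al1_cf z0_cf al1_van z0_van al5_cf z0_cf al5_van z0_van
    m1 m5 hm1 hm5
  have g22 := gram_zf S z0 be2 z0 be2 z0_cf be2_cf z0_van be2_van z0_cf be2_cf z0_van be2_van
    m2 m2 hm2 hm2
  have g23 := gram_zf S z0 be2 al3 z0 z0_cf be2_cf z0_van be2_van al3_cf z0_cf al3_van z0_van
    m2 m3 hm2 hm3
  have g24 := gram_zf S z0 be2 al4 be4 z0_cf be2_cf z0_van be2_van al4_cf be4_cf al4_van be4_van
    m2 m4 hm2 hm4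
  have g25 := gram_zf S z0 be2 al5 z0 z0_cf be2_cf z0_van be2_van al5_cf z0_cf al5_van z0_van
    m2 m5 hm2 hm5
  have g33 := gram_zf S al3 z0 al3 z0 al3_cf z0_cf al3_van z0_van al3_cf z0_cf al3_van z0_van
    m3 m3 hm3 hm3
  have g34 := gram_zf S al3 z0 al4 be4 al3_cf z0_cf al3_van z0_van al4_cf be4_cf al4_van be4_van
    m3 m4 hm3 hm4
  have g35 := gram_zf S al3 z0 al5 z0 al3_cf z0_cf al3_van z0_van al5_cf z0_cf al5_van z0_van
    m3 m5 hm3 hm5
  have g44 := gram_zf S al4 be4 al4 be4 al4_cf be4_cf al4_van be4_van al4_cf be4_cf al4_van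
    be4_van m4 m4 hm4 hm4
  have g45 := gram_zf S al4 be4 al5 z0 al4_cf be4_cf al4_van be4_van al5_cf z0_cf al5_van z0_van
    m4 m5 hm4 hm5
  have g55 := gram_zf S al5 z0 al5 z0 al5_cf z0_cf al5_van z0_van al5_cf z0_cf al5_van z0_van
    m5 m5 hm5 hm5
  have hc : ∑ m : M48, be4 m * al4 m = 0 := by
    rw [← sum_al4_be4]
    exact Finset.sum_congr rfl (fun m _ => mul_comm _ _)
  simp only [z0, zero_mul, mul_zero, Finset.sum_const_zero, Int.cast_zero, sub_self, add_zero,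
    zero_add, sum_al1_al1, sum_al1_be2, sum_al1_al3, sum_al1_al4, sum_al1_be4, sum_al1_al5,
    sum_be2_be2, sum_be2_al3, sum_be2_al4, sum_be2_be4, sum_be2_al5, sum_al3_al3, sum_al3_al4,
    sum_al3_be4, sum_al3_al5, sum_al4_al4, sum_al4_be4, sum_al4_al5, sum_be4_be4, sum_be4_al5,
    sum_al5_al5, hc] at g11 g12 g13 g14 g15 g22 g23 g24 g25 g33 g34 g35 g44 g45 g55
  have t1 := triv_zf (G := G) S al1 z0
  have t2 := triv_zf (G := G) S z0 be2
  have t3 := triv_zf (G := G) S al3 z0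
  have t4 := triv_zf (G := G) S al4 be4
  have t5 := triv_zf (G := G) S al5 z0
  have e1 := hm1 (trivIrr G)
  have e2 := hm2 (trivIrr G)
  have e3 := hm3 (trivIrr G)
  have e4 := hm4 (trivIrr G)
  have e5 := hm5 (trivIrr G)
  change Cfsg.classInner (h5_ThetaC S (zf al1 z0)) (fun _ : G => (1 : ℂ)) = _ at e1
  change Cfsg.classInner (h5_ThetaC S (zf z0 be2)) (fun _ : G => (1 : ℂ)) = _ at e2
  change Cfsg.classInner (h5_ThetaC S (zf al3 z0)) (fun _ : G => (1 : ℂ)) = _ at e3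
  change Cfsg.classInner (h5_ThetaC S (zf al4 be4)) (fun _ : G => (1 : ℂ)) = _ at e4
  change Cfsg.classInner (h5_ThetaC S (zf al5 z0)) (fun _ : G => (1 : ℂ)) = _ at e5
  rw [e1] at t1
  rw [e2] at t2
  rw [e3] at t3
  rw [e4] at t4
  rw [e5] at t5
  simp only [z0, Finset.sum_const_zero, Int.cast_zero, mul_zero, add_zero, sum_al1,
    sum_be2, sum_al3, sum_al4, sum_be4, sum_al5] at t1 t2 t3 t4 t5
  refine ⟨m1, m2, m3, m4, m5, hm1, hm2, hm3, hm4, hm5, ⟨?_, ?_, ?_, ?_, ?_, ?_, ?_, ?_, ?_, ?_,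
    ?_, ?_, ?_, ?_, ?_⟩, ⟨?_, ?_, ?_, ?_, ?_⟩, ⟨degree_zf S th1 th1_van m1 hm1,
    degree_zf S th2 th2_van m2 hm2, degree_zf S th3 th3_van m3 hm3,
    degree_zf S th4 th4_van m4 hm4, degree_zf S th5 th5_van m5 hm5⟩⟩
  · have h : (48 : ℤ) * (∑ χ, m1 χ * m1 χ) = 192 := by exact_mod_cast g11
    omega
  · have h : (48 : ℤ) * (∑ χ, m1 χ * m2 χ) = 0 := by exact_mod_cast g12
    omega
  · have h : (48 : ℤ) * (∑ χ, m1 χ * m3 χ) = 96 := by exact_mod_cast g13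
    omega
  · have h : (48 : ℤ) * (∑ χ, m1 χ * m4 χ) = 0 := by exact_mod_cast g14
    omega
  · have h : (48 : ℤ) * (∑ χ, m1 χ * m5 χ) = 96 := by exact_mod_cast g15
    omega
  · have h : (48 : ℤ) * (∑ χ, m2 χ * m2 χ) = 2 * 48 := by exact_mod_cast g22
    omega
  · have h : (48 : ℤ) * (∑ χ, m2 χ * m3 χ) = 0 := by exact_mod_cast g23
    omega
  · have h : (48 : ℤ) * (∑ χ, m2 χ * m4 χ) = 2 * (-24) := by exact_mod_cast g24
    omega
  · have h : (48 : ℤ) * (∑ χ, m2 χ * m5 χ) = 0 := by exact_mod_cast g25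
    omega
  · have h : (48 : ℤ) * (∑ χ, m3 χ * m3 χ) = 144 := by exact_mod_cast g33
    omega
  · have h : (48 : ℤ) * (∑ χ, m3 χ * m4 χ) = 48 := by exact_mod_cast g34
    omega
  · have h : (48 : ℤ) * (∑ χ, m3 χ * m5 χ) = 48 := by exact_mod_cast g35
    omega
  · have h : (48 : ℤ) * (∑ χ, m4 χ * m4 χ) = 72 + 2 * 12 := by exact_mod_cast g44
    omega
  · have h : (48 : ℤ) * (∑ χ, m4 χ * m5 χ) = 0 := by exact_mod_cast g45
    omega
  · have h : (48 : ℤ) * (∑ χ, m5 χ * m5 χ) = 144 := by exact_mod_cast g55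
    omega
  · have h : (48 : ℤ) * m1 (trivIrr G) = 48 := by exact_mod_cast t1
    omega
  · have h : (48 : ℤ) * m2 (trivIrr G) = 0 := by exact_mod_cast t2
    omega
  · have h : (48 : ℤ) * m3 (trivIrr G) = 48 := by exact_mod_cast t3
    omega
  · have h : (48 : ℤ) * m4 (trivIrr G) = 0 := by exact_mod_cast t4
    omega
  · have h : (48 : ℤ) * m5 (trivIrr G) = 48 := by exact_mod_cast t5
    omega

end frame

end Cfsg.Agent.S0197
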