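import Mathlib

/-!
# S0197: the arithmetic in integer polynomial form (helper2's `arith_final`)

`h8` is (E8), `h3` is (R3) `1 + 4/D - 9/(D+1) = 4608/g` and `h5` is (R5)
`1 + 16/F - 9/(F+1) = 9216/g`, all cleared of denominators.
-/

set_option autoImplicit false

namespace Cfsg.Agent.S0197

set_option maxHeartbeats 1600000 in
theorem arith_final (D F g : ℤ) (hg : 0 < g) (h16 : (16 : ℤ) ∣ g) (h32 : ¬ (32 : ℤ) ∣ g)
    (hD : D ≠ 0) (hD1 : D + 1 ≠ 0) (hF : F ≠ 0) (hF1 : F + 1 ≠ 0) (hE : D + F + 1 ≠ 0)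
    (h8 : (D + 1) * (F + 1) * (D + F + 2) = 9 * (D + F + 1) * (D + F + 2))
    (h3 : g * (D - 2) ^ 2 = 4608 * (D * (D + 1)))
    (h5 : g * (F + 4) ^ 2 = 9216 * (F * (F + 1))) : g = 5616 ∨ g = 7920 := by
  have h8' : (D + F + 2) * ((D - 8) * (F - 8) - 72) = 0 := by linear_combination h8
  obtain ⟨k, rfl⟩ := h16
  have hk : ¬ (2 : ℤ) ∣ k := fun ⟨j, hj⟩ => h32 ⟨j, by rw [hj]; ring⟩
  rcases mul_eq_zero.mp h8' with h | h
  · -- the degenerate branch: `F = -D - 2`, then `D = -4` and `g = 1536`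
    exfalso
    have hFD : F = -D - 2 := by linarith
    subst hFD
    have h6 : (D + 1) * (D + 4) = 0 := by
      have e1 : 16 * k * (-D - 2 + 4) ^ 2 = 16 * k * (D - 2) ^ 2 := by ring
      have e2 : 9216 * ((-D - 2) * (-D - 2 + 1)) = 9216 * ((D + 2) * (D + 1)) := by ring
      rw [e1, e2, h3] at h5
      have : 4608 * ((D + 1) * (D + 4)) = 0 := by linear_combination -h5
      rcases mul_eq_zero.mp this with h' | h'
      · norm_num at h'
      · exact h'
    rcases mul_eq_zero.mp h6 with h' | h'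
    · exact hD1 h'
    · have hD4 : D = -4 := by linarith
      subst hD4
      norm_num at h3
      apply hk
      exact ⟨48, by omega⟩
  · have huv : (D - 8) * (F - 8) = 72 := by linarith
    have hdvd : (D - 8) ∣ 72 := ⟨F - 8, huv.symm⟩
    have hle : D - 8 ≤ 72 := Int.le_of_dvd (by norm_num) hdvd
    have hge : -72 ≤ D - 8 := by
      have : -(D - 8) ∣ 72 := (neg_dvd).mpr hdvd
      have := Int.le_of_dvd (by norm_num) this
      omega
    obtain ⟨u, hu⟩ : ∃ u : ℤ, u = D - 8 := ⟨_, rfl⟩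
    have hDu : D = u + 8 := by omega
    rw [← hu] at huv hle hge
    subst hDu
    have hu0 : u ≠ 0 := by
      rintro rfl
      simp at huv
    have hFv : F - 8 = 72 / u := Int.eq_ediv_of_mul_eq_right hu0 huv
    have hFu : F = 72 / u + 8 := by omega
    clear h8 h8' h hFv hdvd
    interval_cases u <;> norm_num at hFu <;> subst hFu <;>
      first | (exfalso; omega) | (norm_num at h3 h5 ⊢; omega)

end Cfsg.Agent.S0197
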