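import Mathlib
import Cfsg.Prelude.Def_Characters
import Cfsg.Agent.Helper4.Bsw2.ClassMult
import Cfsg.Agent.H72.H1_GSetup
import Cfsg.Agent.S0197.H5_Data

/-!
# S0197, piece Q5: the class relation for the involutions

`class_rel197`: for an integer class function `f` on the model vanishing off `sing`,
`|G| · Σ_χ ⟨Θ f, χ⟩ χ(t)² / χ(1) = 48 · Σ_{m₁, m₂ involutions of the model} f (m₁ m₂)`.

The double class sum formula `h5_sum_class_mul_eq` is a copy of `Helper6.SEmbA.sum_class_mul_eq`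
proved from `Helper4.Bsw2.class_mult_count`, so that this file depends neither on
`Helper6.ClassMult` nor on `Helper6.StructConst`.
-/

set_option autoImplicit false
set_option linter.style.haveILetI false

namespace Cfsg.Agent.S0197

open Cfsg.Agent.Helper6 Cfsg.Agent.Helper6.H72
open scoped ComplexConjugate

universe u

variable {G : Type u} [Group G]

/-- Double class sums of an arbitrary function in terms of its inner products with the irreducible
characters. -/
theorem h5_sum_class_mul_eq [Fintype G] [Fintype (Cfsg.IrrCharacter G)] (Θ : G → ℂ) (g h : G) :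
    ∑ x ∈ classFinset g, ∑ y ∈ classFinset h, Θ (x * y) =
      ((classFinset g).card : ℂ) * ((classFinset h).card : ℂ) *
        ∑ χ : Cfsg.IrrCharacter G,
          Cfsg.classInner Θ (χ : G → ℂ) * ((χ : G → ℂ) g * (χ : G → ℂ) h / (χ : G → ℂ) 1) := by
  classical
  have hG0 : (Nat.card G : ℂ) ≠ 0 := by
    have : 0 < Nat.card G := Nat.card_pos
    exact_mod_cast this.ne'
  have h1 : ∀ x y : G, Θ (x * y) = ∑ c : G, (if x * y = c then (1 : ℂ) else 0) * Θ c := by
    intro x y
    rw [Finset.sum_eq_single (x * y)]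
    · simp
    · intro c _ hc
      rw [if_neg (fun h' => hc h'.symm), zero_mul]
    · intro hx
      exact absurd (Finset.mem_univ _) hx
  simp_rw [h1]
  have h2 : ∑ x ∈ classFinset g, ∑ y ∈ classFinset h, ∑ c : G,
      (if x * y = c then (1 : ℂ) else 0) * Θ c =
      ∑ c : G, (∑ x ∈ classFinset g, ∑ y ∈ classFinset h,
        (if x * y = c then (1 : ℂ) else 0)) * Θ c := by
    calc _ = ∑ x ∈ classFinset g, ∑ c : G, ∑ y ∈ classFinset h,
          (if x * y = c then (1 : ℂ) else 0) * Θ c :=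
          Finset.sum_congr rfl (fun x _ => Finset.sum_comm)
      _ = ∑ c : G, ∑ x ∈ classFinset g, ∑ y ∈ classFinset h,
          (if x * y = c then (1 : ℂ) else 0) * Θ c := Finset.sum_comm
      _ = _ := by
          apply Finset.sum_congr rfl
          intro c _
          rw [Finset.sum_mul]
          apply Finset.sum_congr rfl
          intro x _
          rw [Finset.sum_mul]
  rw [h2]
  simp_rw [Helper4.Bsw2.class_mult_count]
  unfold Cfsg.classInner
  simp_rw [Finset.mul_sum, Finset.sum_mul]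
  rw [Finset.sum_comm]
  apply Finset.sum_congr rfl
  intro χ _
  rw [Finset.mul_sum]
  apply Finset.sum_congr rfl
  intro c _
  field_simp

/-- the involutions of the model are the elements mapped to conjugates of `t` -/
theorem h5_mem_invs_iff {S : GSetup G M48 sing}
    (hconj : ∀ u : G, orderOf u = 2 → IsConj (S.ι tt) u) (m : M48) :
    m ∈ invs ↔ IsConj (S.ι tt) (S.ι m) := by
  unfold invs
  rw [Finset.mem_filter]
  constructor
  · rintro ⟨-, h1, h2⟩
    apply hconj
    apply orderOf_eq_prime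
    · rw [pow_two, ← map_mul, h1, map_one]
    · rw [Ne, S.ι_eq_one_iff]
      exact h2
  · intro h
    obtain ⟨c, hc⟩ := isConj_iff.mp h
    refine ⟨Finset.mem_univ _, ?_, ?_⟩
    · apply S.ι_injective
      rw [map_mul, map_one, ← hc]
      have : S.ι tt * S.ι tt = 1 := by rw [← map_mul, tt_mul_self, map_one]
      calc c * S.ι tt * c⁻¹ * (c * S.ι tt * c⁻¹) = c * (S.ι tt * S.ι tt) * c⁻¹ := by group
        _ = 1 := by rw [this]; group
    · intro h1
      have h2 : S.ι m = 1 := by rw [h1, map_one]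
      rw [← hc] at h2
      have h3 : S.ι tt = 1 := by
        calc S.ι tt = c⁻¹ * (c * S.ι tt * c⁻¹) * c := by group
          _ = 1 := by rw [h2]; group
      rw [S.ι_eq_one_iff] at h3
      exact tt_ne_one h3

/-- **The class relation** for the class of the involution `t = ι tt`. -/
theorem class_rel197 [Fintype G] [Fintype (Cfsg.IrrCharacter G)] (S : GSetup G M48 sing)
    (hconj : ∀ u : G, orderOf u = 2 → IsConj (S.ι tt) u)
    (hK : (classFinset (S.ι tt)).card * 48 = Nat.card G)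
    (f : M48 → ℤ) (hf : ∀ m, sing m = false → f m = 0) :
    (Nat.card G : ℂ) * ∑ χ : Cfsg.IrrCharacter G, Cfsg.classInner (S.Theta f) (χ : G → ℂ) *
        ((χ : G → ℂ) (S.ι tt) * (χ : G → ℂ) (S.ι tt) / (χ : G → ℂ) 1) =
      48 * ((∑ m₁ ∈ invs, ∑ m₂ ∈ invs, f (m₁ * m₂) : ℤ) : ℂ) := by
  have htt : S.ι tt * S.ι tt = 1 := by rw [← map_mul, tt_mul_self, map_one]
  have h1 := S.sum_class_Theta sing_inv f hf (S.ι tt) (S.ι tt) htt htt invs invs
    (h5_mem_invs_iff hconj) (h5_mem_invs_iff hconj)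
  rw [h5_sum_class_mul_eq, card_M48] at h1
  have hG0 : (Nat.card G : ℂ) ≠ 0 := by
    have : 0 < Nat.card G := Nat.card_pos
    exact_mod_cast this.ne'
  have hKc : ((classFinset (S.ι tt)).card : ℂ) * 48 = (Nat.card G : ℂ) := by exact_mod_cast hK
  have hk0 : ((classFinset (S.ι tt)).card : ℂ) ≠ 0 := by
    intro h
    rw [h, zero_mul] at hKc
    exact hG0 hKc.symm
  obtain ⟨k, hk⟩ : ∃ k : ℂ, k = ((classFinset (S.ι tt)).card : ℂ) := ⟨_, rfl⟩
  obtain ⟨Sg, hSg⟩ : ∃ x : ℂ, x = ∑ χ : Cfsg.IrrCharacter G, Cfsg.classInner (S.Theta f) (χ : G → ℂ) *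
        ((χ : G → ℂ) (S.ι tt) * (χ : G → ℂ) (S.ι tt) / (χ : G → ℂ) 1) := ⟨_, rfl⟩
  obtain ⟨P, hP⟩ : ∃ x : ℂ, x = ((∑ m₁ ∈ invs, ∑ m₂ ∈ invs, f (m₁ * m₂) : ℤ) : ℂ) := ⟨_, rfl⟩
  rw [← hk, ← hSg, ← hP] at h1
  rw [← hk] at hKc hk0
  rw [← hSg, ← hP, ← hKc]
  have h2 : k * k * Sg = k * 48 / ((48 : ℕ) : ℂ) * P := by rw [h1, hKc]
  have h3 : k * (k * Sg) = k * P := by
    rw [← mul_assoc, h2]
    push_cast
    field_simp
  have h4 := mul_left_cancel₀ hk0 h3
  rw [mul_comm k 48, mul_assoc, h4]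

/-- the three pair sums -/
theorem pairsum_al1 : ∑ m₁ ∈ invs, ∑ m₂ ∈ invs, al1 (m₁ * m₂) = 0 := by decide +kernel
theorem pairsum_al3 : ∑ m₁ ∈ invs, ∑ m₂ ∈ invs, al3 (m₁ * m₂) = 96 := by decide +kernel
theorem pairsum_al5 : ∑ m₁ ∈ invs, ∑ m₂ ∈ invs, al5 (m₁ * m₂) = 192 := by decide +kernel

end Cfsg.Agent.S0197
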