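import Mathlib
import Cfsg.Prelude.Def_Characters
import Cfsg.Agent.Helper6.IrrBasis
import Cfsg.Agent.Helper6.IrrDegree
import Cfsg.Agent.Helper6.CharBasic
import Cfsg.Agent.Helper6.BlockPart
import Cfsg.Agent.S0197.H5_Frame
import Cfsg.Agent.S0197.H5_ClassRel
import Cfsg.Agent.S0197.H5_ArithFinal
import Cfsg.Agent.S0197.H5_Glue
import Cfsg.Agent.GL23U.H9_Emb
import Cfsg.Agent.GL23U.H4_Local

/-!
# S0197: the assembly, modulo the five facts "`θ_i` is a generalized character of `GL(2,3)`"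

`h5_assembly`: the statement of S0197 under the extra hypotheses
`Cfsg.IsGeneralizedCharacter M48 th_i` (`i = 1..5`).
-/

set_option autoImplicit false
set_option linter.style.haveILetI false

namespace Cfsg.Agent.S0197

open Cfsg.Agent.Helper6 Cfsg.Agent.Helper6.H72 Cfsg.Agent.GL23U

universe u

theorem th1_eq : th1 = fun m => (al1 m : ℂ) := by
  funext m
  simp [th1, zf, z0]

theorem th3_eq : th3 = fun m => (al3 m : ℂ) := by
  funext m
  simp [th3, zf, z0]

theorem th5_eq : th5 = fun m => (al5 m : ℂ) := by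
  funext m
  simp [th5, zf, z0]

section

variable {G : Type u} [Group G] [Fintype G] (S : GSetup G M48 sing)

theorem Th1_eq : Th1 S = S.Theta al1 := by
  unfold Th1
  rw [th1_eq]
  rfl

theorem Th3_eq : Th3 S = S.Theta al3 := by
  unfold Th3
  rw [th3_eq]
  rfl

theorem Th5_eq : Th5 S = S.Theta al5 := by
  unfold Th5
  rw [th5_eq]
  rfl

end

/-- the degree of an irreducible character as a positive integer -/
theorem h5_deg_pos {G : Type u} [Group G] (χ : Cfsg.IrrCharacter G) :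
    0 < (Cfsg.charDegree (χ : G → ℂ) : ℤ) := by
  obtain ⟨n, hn, hn1⟩ := IsIrrCharacter.apply_one_pos χ.2
  have := charDegree_cast_of_isCharacter (IsIrrCharacter.isCharacter χ.2)
  rw [hn1] at this
  have h2 : Cfsg.charDegree (χ : G → ℂ) = n := by exact_mod_cast this
  rw [h2]
  exact_mod_cast hn

theorem h5_deg_cast {G : Type u} [Group G] (χ : Cfsg.IrrCharacter G) :
    (χ : G → ℂ) 1 = ((Cfsg.charDegree (χ : G → ℂ) : ℤ) : ℂ) := by
  rw [Int.cast_natCast]
  exact (charDegree_cast_of_isCharacter (IsIrrCharacter.isCharacter χ.2)).symm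

theorem h5_deg_triv {G : Type u} [Group G] :
    (Cfsg.charDegree ((trivIrr G : Cfsg.IrrCharacter G) : G → ℂ) : ℤ) = 1 := by
  have h := h5_deg_cast (trivIrr G)
  have h1 : ((trivIrr G : Cfsg.IrrCharacter G) : G → ℂ) 1 = 1 := rfl
  rw [h1] at h
  exact_mod_cast h.symm

set_option maxHeartbeats 1600000 in
/-- **S0197 modulo Q2.** -/
theorem h5_assembly {G : Type u} [Group G] [Finite G] [IsSimpleGroup G] (t : G)
    (ht : orderOf t = 2) (e : Subgroup.centralizer ({t} : Set G) ≃* GL23)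
    (hg1 : Cfsg.IsGeneralizedCharacter M48 th1) (hg2 : Cfsg.IsGeneralizedCharacter M48 th2)
    (hg3 : Cfsg.IsGeneralizedCharacter M48 th3) (hg4 : Cfsg.IsGeneralizedCharacter M48 th4)
    (hg5 : Cfsg.IsGeneralizedCharacter M48 th5) :
    Nat.card G = 5616 ∨ Nat.card G = 7920 := by
  classical
  haveI : Fintype G := Fintype.ofFinite G
  haveI : Finite (Cfsg.IrrCharacter G) := irr_finite
  haveI : Fintype (Cfsg.IrrCharacter G) := Fintype.ofFinite _
  obtain ⟨h16, h32⟩ := two_part197 t ht e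
  have hιt : (setup197 t ht e).ι tt = t := setup197_ι_tt t ht e
  generalize setup197 t ht e = S at hιt
  have hconj : ∀ u : G, orderOf u = 2 → IsConj (S.ι tt) u := by
    rw [hιt]
    exact isConj_invol197 t ht e
  have hK : (classFinset (S.ι tt)).card * 48 = Nat.card G := by
    rw [hιt]
    convert card_classFinset197 t e
  obtain ⟨m1, m2, m3, m4, m5, hm1, hm2, hm3, hm4, hm5,
    ⟨g11, g12, g13, g14, g15, g22, g23, g24, g25, g33, g34, g35, g44, g45, g55⟩,
    ⟨t1, t2, t3, t4, t5⟩, ⟨d1, d2, d3, d4, d5⟩⟩ := frame S hg1 hg2 hg3 hg4 hg5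
  obtain ⟨xP, xQ, xS, xR, xU, xV, xE, hnd, sP, sQ, sS, sR, sU, sV, sE, hsP, hsQ, hsS, hsR, hsU,
    hsV, hsE, hform⟩ := embedding_unique m1 m2 m3 m4 m5 (trivIrr G) g11 g12 g13 g14 g15 g22 g23
      g24 g25 g33 g34 g35 g44 g45 g55 t1 t2 t3 t4 t5
  -- the three class relations
  have r1 := class_rel197 S hconj hK al1 al1_van
  have r3 := class_rel197 S hconj hK al3 al3_van
  have r5 := class_rel197 S hconj hK al5 al5_van
  rw [pairsum_al1, ← Th1_eq] at r1
  rw [pairsum_al3, ← Th3_eq] at r3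
  rw [pairsum_al5, ← Th5_eq] at r5
  simp_rw [hm1, h5_deg_cast] at r1
  simp_rw [hm3, h5_deg_cast] at r3
  simp_rw [hm5, h5_deg_cast] at r5
  have hgc : (((Nat.card G : ℕ) : ℤ) : ℂ) = ((Nat.card G : ℕ) : ℂ) := Int.cast_natCast _
  rw [← hgc] at r1 r3 r5
  -- the values at the involution
  have hT : ∀ χ : Cfsg.IrrCharacter G, (χ : G → ℂ) (S.ι tt) =
      4 * (m4 χ : ℂ) + 4 * (m5 χ : ℂ) - 2 * (m3 χ : ℂ) - (m1 χ : ℂ) + 2 * (m2 χ : ℂ) := fun χ =>
    (values_of_inner S (χ : G → ℂ)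
      (IsCharacter.isClassFunction (IsIrrCharacter.isCharacter χ.2)) (m1 χ) (m2 χ) (m3 χ) (m4 χ)
      (m5 χ) (hm1 χ) (hm2 χ) (hm3 χ) (hm4 χ) (hm5 χ)).2.2.2.1
  have hgpos : (0 : ℤ) < ((Nat.card G : ℕ) : ℤ) := by
    have : 0 < Nat.card G := Nat.card_pos
    exact_mod_cast this
  obtain ⟨D, F, hD, hD1, hF, hF1, hE, h8, h3, h5⟩ := glue197 (trivIrr G) xP xQ xS xR xU xV xE hnd
    sP sQ sS sR sU sV sE hsP hsQ hsS hsR hsU hsV hsE m1 m2 m3 m4 m5 hform
    (fun χ => (Cfsg.charDegree (χ : G → ℂ) : ℤ)) h5_deg_pos h5_deg_triv d1 d2 d3 d4 d5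
    (fun χ => (χ : G → ℂ) (S.ι tt)) hT ((Nat.card G : ℕ) : ℤ) hgpos r1 r3 r5
  have h16' : (16 : ℤ) ∣ ((Nat.card G : ℕ) : ℤ) := by exact_mod_cast h16
  have h32' : ¬ (32 : ℤ) ∣ ((Nat.card G : ℕ) : ℤ) := by
    intro h
    apply h32
    exact_mod_cast h
  rcases arith_final D F _ hgpos h16' h32' hD hD1 hF hF1 hE h8 h3 h5 with h | h
  · left
    exact_mod_cast h
  · right
    exact_mod_cast h

end Cfsg.Agent.S0197
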