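import Mathlib

/-!
# S0197, piece Q6: the arithmetic

From the two class-sum equations (E8), (E6) of helper3's blueprint
(`notes/S0197_blueprint_helper3.md`, sections 4 and 5) and the `2`-part of the group order we get
`g = 5616` or `g = 7920`.
-/

set_option autoImplicit false

namespace Cfsg.Agent.S0197

/-- (E8) cleared of denominators. -/
theorem h5_E8_int (D F : ℤ) (hD1 : D + 1 ≠ 0) (hF1 : F + 1 ≠ 0) (hE0 : D + F + 1 ≠ 0)
    (hE8 : (1 : ℚ) + 1 / ((D : ℚ) + F + 1) = 9 / ((D : ℚ) + 1) + 9 / ((F : ℚ) + 1)) :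
    (D + F + 2) * ((D - 8) * (F - 8) - 72) = 0 := by
  have h1 : ((D : ℚ) + 1) ≠ 0 := by exact_mod_cast hD1
  have h2 : ((F : ℚ) + 1) ≠ 0 := by exact_mod_cast hF1
  have h3 : ((D : ℚ) + F + 1) ≠ 0 := by exact_mod_cast hE0
  field_simp at hE8
  have h4 : ((D : ℚ) + F + 2) * (((D : ℚ) - 8) * ((F : ℚ) - 8) - 72) = 0 := by
    linear_combination hE8
  exact_mod_cast h4

/-- (E6) cleared of denominators. -/
theorem h5_E6_int (D F : ℤ) (g : ℕ) (hg : 0 < g) (hD : D ≠ 0) (hF : F ≠ 0) (hE0 : D + F + 1 ≠ 0)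
    (hE6 : (13824 : ℚ) / (g : ℚ) = 1 - 1 / ((D : ℚ) + F + 1) + 4 / (D : ℚ) + 16 / (F : ℚ)) :
    13824 * ((D + F + 1) * D * F) =
      (g : ℤ) * ((D + F + 1) * D * F - D * F + 4 * ((D + F + 1) * F) + 16 * ((D + F + 1) * D)) := by
  have h1 : ((D : ℚ)) ≠ 0 := by exact_mod_cast hD
  have h2 : ((F : ℚ)) ≠ 0 := by exact_mod_cast hF
  have h3 : ((D : ℚ) + F + 1) ≠ 0 := by exact_mod_cast hE0
  have h0 : ((g : ℚ)) ≠ 0 := by exact_mod_cast hg.ne'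
  field_simp at hE6
  have h4 : (13824 : ℚ) * (((D : ℚ) + F + 1) * D * F) =
      (g : ℚ) * (((D : ℚ) + F + 1) * D * F - D * F + 4 * (((D : ℚ) + F + 1) * F)
        + 16 * (((D : ℚ) + F + 1) * D)) := by
    linear_combination hE6
  exact_mod_cast h4

set_option maxHeartbeats 1600000 in
/-- The arithmetic core of S0197. -/
theorem h5_arith_core (D F : ℤ) (g : ℕ) (hg : 0 < g)
    (hD : D ≠ 0) (hD1 : D + 1 ≠ 0) (hF : F ≠ 0) (hF1 : F + 1 ≠ 0) (hE0 : D + F + 1 ≠ 0)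
    (hE1 : D + F + 1 ≠ -1)
    (hE8 : (1 : ℚ) + 1 / ((D : ℚ) + F + 1) = 9 / ((D : ℚ) + 1) + 9 / ((F : ℚ) + 1))
    (hE6 : (13824 : ℚ) / (g : ℚ) = 1 - 1 / ((D : ℚ) + F + 1) + 4 / (D : ℚ) + 16 / (F : ℚ))
    (h16 : 16 ∣ g) (h32 : ¬ 32 ∣ g) : g = 5616 ∨ g = 7920 := by
  have h8 := h5_E8_int D F hD1 hF1 hE0 hE8
  have h6 := h5_E6_int D F g hg hD hF hE0 hE6
  rcases mul_eq_zero.mp h8 with h | h
  · exfalso; apply hE1; omega
  · have huv : (D - 8) * (F - 8) = 72 := by linarith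
    have hdvd : (D - 8) ∣ 72 := ⟨F - 8, huv.symm⟩
    have hle : D - 8 ≤ 72 := Int.le_of_dvd (by norm_num) hdvd
    have hge : -72 ≤ D - 8 := by
      have : -(D - 8) ∣ 72 := (neg_dvd).mpr hdvd
      have := Int.le_of_dvd (by norm_num) this
      omega
    obtain ⟨u, hu⟩ : ∃ u : ℤ, u = D - 8 := ⟨_, rfl⟩
    have hDu : D = u + 8 := by omega
    rw [← hu] at huv hle hge
    subst hDu
    have hu0 : u ≠ 0 := by
      rintro rfl
      simp at huv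
    have hFv : F - 8 = 72 / u := Int.eq_ediv_of_mul_eq_right hu0 huv
    have hFu : F = 72 / u + 8 := by omega
    obtain ⟨k, rfl⟩ := h16
    have hk : ¬ 2 ∣ k := fun ⟨j, hj⟩ => h32 ⟨j, by rw [hj]; ring⟩
    push_cast at h6
    clear hE8 hE6 h8 hFv hdvd
    interval_cases u <;> norm_num at hFu <;> subst hFu <;>
      first | (exfalso; omega) | (norm_num at h6 ⊢; omega)

/-- The arithmetic of S0197, with the two equations stated over `ℂ`. -/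
theorem h5_arith (D F : ℤ) (g : ℕ) (hg : 0 < g)
    (hD : D ≠ 0) (hD1 : D + 1 ≠ 0) (hF : F ≠ 0) (hF1 : F + 1 ≠ 0) (hE0 : D + F + 1 ≠ 0)
    (hE1 : D + F + 1 ≠ -1)
    (hE8 : (1 : ℂ) + 1 / ((D : ℂ) + F + 1) = 9 / ((D : ℂ) + 1) + 9 / ((F : ℂ) + 1))
    (hE6 : (13824 : ℂ) / (g : ℂ) = 1 - 1 / ((D : ℂ) + F + 1) + 4 / (D : ℂ) + 16 / (F : ℂ))
    (h16 : 16 ∣ g) (h32 : ¬ 32 ∣ g) : g = 5616 ∨ g = 7920 := by
  refine h5_arith_core D F g hg hD hD1 hF hF1 hE0 hE1 ?_ ?_ h16 h32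
  · apply Rat.cast_injective (α := ℂ)
    push_cast
    exact hE8
  · apply Rat.cast_injective (α := ℂ)
    push_cast
    exact hE6

end Cfsg.Agent.S0197
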